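import Cfsg.Agent.Lib.TCX.ON.Defs

set_option autoImplicit false
set_option maxRecDepth 100000
set_option Elab.async false

namespace Cfsg.Agent.TCX.ON

theorem c0 : l0c 0 0 106 = 0 := by decide +kernel
theorem c1 : l0c 0 106 97 = 0 := by decide +kernel
theorem c2 : l0c 0 203 85 = 0 := by decide +kernel
theorem c3 : l0c 0 288 86 = 0 := by decide +kernel
theorem c4 : l0c 0 374 93 = 0 := by decide +kernel
theorem c5 : l0c 0 467 131 = 0 := by decide +kernel
theorem c6 : l0c 0 598 425 = 0 := by decide +kernel
theorem c7 : l0c 1 0 106 = 0 := by decide +kernel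
theorem c8 : l0c 1 106 99 = 0 := by decide +kernel
theorem c9 : l0c 1 205 86 = 0 := by decide +kernel
theorem c10 : l0c 1 291 88 = 0 := by decide +kernel
theorem c11 : l0c 1 379 98 = 0 := by decide +kernel
theorem c12 : l0c 1 477 137 = 0 := by decide +kernel
theorem c13 : l0c 1 614 409 = 0 := by decide +kernel
theorem c14 : l0c 2 0 130 = 0 := by decide +kernel
theorem c15 : l0c 2 130 118 = 0 := by decide +kernel
theorem c16 : l0c 2 248 126 = 0 := by decide +kernel
theorem c17 : l0c 2 374 138 = 0 := by decide +kernel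
theorem c18 : l0c 2 512 172 = 0 := by decide +kernel
theorem c19 : l0c 2 684 339 = 0 := by decide +kernel
theorem c20 : l0c 3 0 131 = 0 := by decide +kernel
theorem c21 : l0c 3 131 116 = 0 := by decide +kernel
theorem c22 : l0c 3 247 115 = 0 := by decide +kernel
theorem c23 : l0c 3 362 126 = 0 := by decide +kernel
theorem c24 : l0c 3 488 187 = 0 := by decide +kernel
theorem c25 : l0c 3 675 348 = 0 := by decide +kernel

end Cfsg.Agent.TCX.ON
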