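import Cfsg.Agent.Lib.TCX.ON.Defs

set_option autoImplicit false
set_option maxRecDepth 100000
set_option Elab.async false

namespace Cfsg.Agent.TCX.ON

theorem c26 : l0c 4 0 121 = 0 := by decide +kernel
theorem c27 : l0c 4 121 109 = 0 := by decide +kernel
theorem c28 : l0c 4 230 102 = 0 := by decide +kernel
theorem c29 : l0c 4 332 112 = 0 := by decide +kernel
theorem c30 : l0c 4 444 138 = 0 := by decide +kernel
theorem c31 : l0c 4 582 441 = 0 := by decide +kernel
theorem c32 : l0c 5 0 119 = 0 := by decide +kernel
theorem c33 : l0c 5 119 109 = 0 := by decide +kernel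
theorem c34 : l0c 5 228 102 = 0 := by decide +kernel
theorem c35 : l0c 5 330 111 = 0 := by decide +kernel
theorem c36 : l0c 5 441 140 = 0 := by decide +kernel
theorem c37 : l0c 5 581 442 = 0 := by decide +kernel
theorem c38 : l0c 6 0 128 = 0 := by decide +kernel
theorem c39 : l0c 6 128 116 = 0 := by decide +kernel
theorem c40 : l0c 6 244 115 = 0 := by decide +kernel
theorem c41 : l0c 6 359 132 = 0 := by decide +kernel
theorem c42 : l0c 6 491 188 = 0 := by decide +kernel
theorem c43 : l0c 6 679 344 = 0 := by decide +kernel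
theorem c44 : l0c 7 0 128 = 0 := by decide +kernel
theorem c45 : l0c 7 128 116 = 0 := by decide +kernel
theorem c46 : l0c 7 244 124 = 0 := by decide +kernel
theorem c47 : l0c 7 368 138 = 0 := by decide +kernel
theorem c48 : l0c 7 506 170 = 0 := by decide +kernel
theorem c49 : l0c 7 676 347 = 0 := by decide +kernel
theorem c50 : l0c 8 0 491 = 0 := by decide +kernel
theorem c51 : l0c 8 491 32 = 0 := by decide +kernel

end Cfsg.Agent.TCX.ON
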