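import Cfsg.Agent.Lib.TCX.ON.Defs

set_option autoImplicit false
set_option maxRecDepth 100000
set_option Elab.async false

namespace Cfsg.Agent.TCX.ON

theorem c52 : l0c 8 523 32 = 0 := by decide +kernel
theorem c53 : l0c 8 555 32 = 0 := by decide +kernel
theorem c54 : l0c 8 587 32 = 0 := by decide +kernel
theorem c55 : l0c 8 619 32 = 0 := by decide +kernel
theorem c56 : l0c 8 651 32 = 0 := by decide +kernel
theorem c57 : l0c 8 683 340 = 0 := by decide +kernel
theorem c58 : l0m 122760 50000 = 0 := by decide +kernel
theorem c59 : l0m 172760 6544 = 0 := by decide +kernel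
theorem c60 : orR l1f 0 9 = 0 := by decide +kernel
theorem c61 : l1m 5586 8 = 0 := by decide +kernel
theorem c62 : orR l2f 0 9 = 0 := by decide +kernel
theorem c63 : l2m 14 0 = 0 := by decide +kernel
theorem c64 : orR l3f 0 9 = 0 := by decide +kernel
theorem c65 : l3m 48 0 = 0 := by decide +kernel

end Cfsg.Agent.TCX.ON
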