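import Cfsg.Agent.Lib.TCX.ON.D0
import Cfsg.Agent.Lib.TCX.ON.D1
import Cfsg.Agent.Lib.TCX.ON.D2

set_option autoImplicit false
set_option maxRecDepth 100000
set_option Elab.async false

namespace Cfsg.Agent.TCX.ON

noncomputable def l0t0 : Bt Nat := (.node (.node (.node (.node l0t0_0 l0t0_8) (.node l0t0_4 l0t0_12)) (.node (.node l0t0_2 l0t0_10) (.node l0t0_6 l0t0_14))) (.node (.node (.node l0t0_1 l0t0_9) (.node l0t0_5 l0t0_13)) (.node (.node l0t0_3 l0t0_11) (.node l0t0_7 l0t0_15))))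
noncomputable def l0t1 : Bt Nat := (.node (.node (.node (.node l0t1_0 l0t1_8) (.node l0t1_4 l0t1_12)) (.node (.node l0t1_2 l0t1_10) (.node l0t1_6 l0t1_14))) (.node (.node (.node l0t1_1 l0t1_9) (.node l0t1_5 l0t1_13)) (.node (.node l0t1_3 l0t1_11) (.node l0t1_7 l0t1_15))))
noncomputable def l0t2 : Bt Nat := (.node (.node (.node (.node l0t2_0 l0t2_8) (.node l0t2_4 l0t2_12)) (.node (.node l0t2_2 l0t2_10) (.node l0t2_6 l0t2_14))) (.node (.node (.node l0t2_1 l0t2_9) (.node l0t2_5 l0t2_13)) (.node (.node l0t2_3 l0t2_11) (.node l0t2_7 l0t2_15))))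
noncomputable def l0t3 : Bt Nat := (.node (.node (.node (.node l0t3_0 l0t3_8) (.node l0t3_4 l0t3_12)) (.node (.node l0t3_2 l0t3_10) (.node l0t3_6 l0t3_14))) (.node (.node (.node l0t3_1 l0t3_9) (.node l0t3_5 l0t3_13)) (.node (.node l0t3_3 l0t3_11) (.node l0t3_7 l0t3_15))))
noncomputable def l0t4 : Bt Nat := (.node (.node (.node (.node l0t4_0 l0t4_8) (.node l0t4_4 l0t4_12)) (.node (.node l0t4_2 l0t4_10) (.node l0t4_6 l0t4_14))) (.node (.node (.node l0t4_1 l0t4_9) (.node l0t4_5 l0t4_13)) (.node (.node l0t4_3 l0t4_11) (.node l0t4_7 l0t4_15))))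
noncomputable def l0t5 : Bt Nat := (.node (.node (.node (.node l0t5_0 l0t5_8) (.node l0t5_4 l0t5_12)) (.node (.node l0t5_2 l0t5_10) (.node l0t5_6 l0t5_14))) (.node (.node (.node l0t5_1 l0t5_9) (.node l0t5_5 l0t5_13)) (.node (.node l0t5_3 l0t5_11) (.node l0t5_7 l0t5_15))))
noncomputable def l0t6 : Bt Nat := (.node (.node (.node (.node l0t6_0 l0t6_8) (.node l0t6_4 l0t6_12)) (.node (.node l0t6_2 l0t6_10) (.node l0t6_6 l0t6_14))) (.node (.node (.node l0t6_1 l0t6_9) (.node l0t6_5 l0t6_13)) (.node (.node l0t6_3 l0t6_11) (.node l0t6_7 l0t6_15))))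
noncomputable def l0t7 : Bt Nat := (.node (.node (.node (.node l0t7_0 l0t7_8) (.node l0t7_4 l0t7_12)) (.node (.node l0t7_2 l0t7_10) (.node l0t7_6 l0t7_14))) (.node (.node (.node l0t7_1 l0t7_9) (.node l0t7_5 l0t7_13)) (.node (.node l0t7_3 l0t7_11) (.node l0t7_7 l0t7_15))))
noncomputable def l0t8 : Bt Nat := (.node (.node (.node (.node l0t8_0 l0t8_8) (.node l0t8_4 l0t8_12)) (.node (.node l0t8_2 l0t8_10) (.node l0t8_6 l0t8_14))) (.node (.node (.node l0t8_1 l0t8_9) (.node l0t8_5 l0t8_13)) (.node (.node l0t8_3 l0t8_11) (.node l0t8_7 l0t8_15))))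
noncomputable def l0t9 : Bt Nat := (.node (.node (.node (.node l0t9_0 l0t9_8) (.node l0t9_4 l0t9_12)) (.node (.node l0t9_2 l0t9_10) (.node l0t9_6 l0t9_14))) (.node (.node (.node l0t9_1 l0t9_9) (.node l0t9_5 l0t9_13)) (.node (.node l0t9_3 l0t9_11) (.node l0t9_7 l0t9_15))))
noncomputable def l0r0 : Bt Ru := (.node (.node (.node (.node (.leaf ⟨[1],0,0⟩) (.leaf ⟨[5,6,0,6,5,0,5,0,6,5],14,3⟩)) (.node (.leaf ⟨[3,4,0,4,0,3,4,0,4,3],12,6⟩) (.leaf ⟨[3,4,0,4,3,0,3,4,0,4],12,0⟩))) (.node (.node (.leaf ⟨[0,7,2],11,0⟩) (.leaf ⟨[6,5,0,5,0,6,5,0,5,6],14,6⟩)) (.node (.leaf ⟨[5,0,6,5,0,5,6,0,6,5],14,9⟩) (.leaf ⟨[4,1,5,1,5,4,5,0,5],28,9⟩)))) (.node (.node (.node (.leaf ⟨[7,2,0],11,1⟩) (.leaf ⟨[4,0,5,1,4,1,4,5,4],17,7⟩)) (.node (.leaf ⟨[4,0,3,4,0,4,3,0,3,4],12,9⟩)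 (.leaf ⟨[5,1,4,1,4,5,4,0,4],17,9⟩))) (.node (.node (.leaf ⟨[5,0,4,1,5,1,5,4,5],28,7⟩) (.leaf ⟨[4,3,0,3,4,0,4,0,3,4],12,3⟩)) (.node (.leaf ⟨[6,5,0,5,6,0,6,5,0,5],14,0⟩) (.leaf ⟨[3,4,5,0,3,4,5,0,3,4,5,0,3,4,5,0,3,4,5],16,19⟩)))))
noncomputable def l0r1 : Bt Ru := (.node (.node (.node (.node (.leaf ⟨[1,2,7],1,2⟩) (.leaf ⟨[5,4,5,0,5,0,4,1,5],28,3⟩)) (.node (.leaf ⟨[5,1,5,4,5,0,5,0,4],28,1⟩) (.leaf ⟨[4,1,4,3,1,3,4,1,4,3],30,10⟩))) (.node (.node (.leaf ⟨[2,7,1],1,3⟩) (.leaf ⟨[4,5,4,0,4,0,5,1,4],17,3⟩)) (.node (.leaf ⟨[3,4,1,4,3,1,4,1,4,3],30,4⟩) (.leaf ⟨[4,1,4,5,4,0,4,0,5],17,1⟩)))) (.node (.node (.node (.leaf ⟨[0],8,0⟩) (.leaf ⟨[6,5,1,5,6,1,5,1,5,6],29,4⟩)) (.node (.leaf ⟨[5,6,1,5,1,5,6,1,6,5],29,7⟩) (.leaf ⟨[4,3,1,3,4,1,4,3,1,4],30,1⟩)))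 (.node (.node (.leaf ⟨[4,3,1,4,1,4,3,1,3,4],30,7⟩) (.leaf ⟨[5,1,5,6,1,6,5,1,5,6],29,10⟩)) (.node (.leaf ⟨[5,6,1,6,5,1,5,6,1,5],29,1⟩) (.leaf ⟨[5,4,3,1,5,4,3,1,5,4,3,1,5,4,3,1,5,4,3],32,0⟩)))))
noncomputable def l0r2 : Bt Ru := (.node (.node (.node (.node (.leaf ⟨[2],2,0⟩) (.leaf ⟨[7,5,4,5,4,5,4,5,4],31,0⟩)) (.node (.leaf ⟨[7,2,7],13,0⟩) (.leaf ⟨[2],2,0⟩))) (.node (.node (.leaf ⟨[3,2,3,2,3],20,0⟩) (.leaf ⟨[2],2,0⟩)) (.node (.leaf ⟨[4,2,4],23,0⟩) (.leaf ⟨[2],2,0⟩)))) (.node (.node (.node (.leaf ⟨[7,1,1],1,0⟩) (.leaf ⟨[4,5,4,5,4,5,4,5,7],33,9⟩)) (.node (.leaf ⟨[6,2,6],26,0⟩) (.leaf ⟨[2],2,0⟩))) (.node (.node (.leaf ⟨[5,2,5],24,0⟩) (.leaf ⟨[2],2,0⟩)) (.node (.leaf ⟨[0,0,7],11,3⟩) (.leaf ⟨[2],2,0⟩)))))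
noncomputable def l0r3 : Bt Ru := (.node (.node (.node (.node (.leaf ⟨[3],3,0⟩) (.leaf ⟨[4,1,4,3,1,4,1,4,3,1],30,5⟩)) (.node (.leaf ⟨[4,3,4,3,4],18,0⟩) (.leaf ⟨[1,5,4,3,1,5,4,3,1,5,4,3,1,5,4,3,1,5,4],32,19⟩))) (.node (.node (.leaf ⟨[0,3,4,0,4,0,3,4,0,4],12,5⟩) (.leaf ⟨[1,3,4,1,4,3,1,4,1,4],30,3⟩)) (.node (.leaf ⟨[2,3,2,3,2],20,5⟩) (.leaf ⟨[3],3,0⟩)))) (.node (.node (.node (.leaf ⟨[4,0,4,3,0,3,4,0,4,0],12,1⟩) (.leaf ⟨[7,3,7],21,0⟩)) (.node (.leaf ⟨[6,3,6],19,0⟩) (.leaf ⟨[4,5,0,3,4,5,0,3,4,5,0,3,4,5,0,3,4,5,0],16,0⟩))) (.node (.node (.leaf ⟨[4,0,4,0,3,4,0,4,3,0],12,7⟩) (.leaf ⟨[1,4,1,4,3,1,3,4,1,4],30,9⟩)) (.node (.leaf ⟨[5,3,5],10,0⟩) (.leaf ⟨[3],3,0⟩)))))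
noncomputable def l0r4 : Bt Ru := (.node (.node (.node (.node (.node (.leaf ⟨[4],4,0⟩) (.leaf ⟨[0,4,3,0,3,4,0,4,0,3],12,2⟩)) (.node (.leaf ⟨[7,4,7],9,0⟩) (.leaf ⟨[3,1,5,4,3,1,5,4,3,1,5,4,3,1,5,4,3,1,5],32,18⟩))) (.node (.node (.leaf ⟨[2,4,2],23,3⟩) (.leaf ⟨[3,1,3,4,1,4,3,1,4,1],30,2⟩)) (.node (.leaf ⟨[5,4,2,7,5,4,5,4,5],31,7⟩) (.leaf ⟨[5,4,5,7,2,4,5,4,5],33,4⟩)))) (.node (.node (.node (.leaf ⟨[3,4,3,4,3],18,5⟩) (.leaf ⟨[3,0,3,4,0,4,0,3,4,0],12,4⟩)) (.node (.leaf ⟨[1,4,3,1,3,4,1,4,3,1],30,0⟩) (.leaf ⟨[5,7,2,4,5,4,5,4,5],33,6⟩))) (.node (.node (.leaf ⟨[1,4,5,4,0,4,0,5,1],17,2⟩) (.leaf ⟨[5,4,5,4,5,4,2,7,5],31,3⟩)) (.node (.leaf ⟨[1,4,3,1,4,1,4,3,1,3],30,6⟩) (.leaf ⟨[4],4,0⟩))))) (.node (.node (.node (.node (.leaf ⟨[6,4,6],15,0⟩)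 (.leaf ⟨[2,7,5,4,5,4,5,4,5],31,9⟩)) (.node (.leaf ⟨[5,0,5,0,4,1,5,1,5],28,5⟩) (.leaf ⟨[5,4,5,4,5,4,5,7,2],33,0⟩))) (.node (.node (.leaf ⟨[1,5,1,5,4,5,0,5,0],28,0⟩) (.leaf ⟨[5,4,5,4,2,7,5,4,5],31,5⟩)) (.node (.leaf ⟨[0,4,0,3,4,0,4,3,0,3],12,8⟩) (.leaf ⟨[5,4,5,4,5,4,5,4,5,4,5,4,5,4,5],34,0⟩)))) (.node (.node (.node (.leaf ⟨[0,3,4,0,4,3,0,3,4,0],12,10⟩) (.leaf ⟨[3,1,4,1,4,3,1,3,4,1],30,8⟩)) (.node (.leaf ⟨[0,4,0,5,1,4,1,4,5],17,6⟩) (.leaf ⟨[5,4,5,4,5,7,2,4,5],33,2⟩))) (.node (.node (.leaf ⟨[5,4,0,4,0,5,1,4,1],17,4⟩) (.leaf ⟨[5,0,3,4,5,0,3,4,5,0,3,4,5,0,3,4,5,0,3],16,17⟩)) (.node (.leaf ⟨[0,5,1,4,1,4,5,4,0],17,8⟩) (.leaf ⟨[4],4,0⟩))))))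
noncomputable def l0r5 : Bt Ru := (.node (.node (.node (.node (.node (.leaf ⟨[5],6,0⟩) (.leaf ⟨[0,5,6,0,6,5,0,5,0,6],14,2⟩)) (.node (.leaf ⟨[4,5,0,5,0,4,1,5,1],28,4⟩) (.leaf ⟨[7,2,4,5,4,5,4,5,4],33,7⟩))) (.node (.node (.leaf ⟨[1,4,1,4,5,4,0,4,0],17,0⟩) (.leaf ⟨[4,3,1,5,4,3,1,5,4,3,1,5,4,3,1,5,4,3,1],32,17⟩)) (.node (.leaf ⟨[1,5,6,1,6,5,1,5,6,1],29,0⟩) (.leaf ⟨[4,5,4,5,4,5,4,2,7],31,2⟩)))) (.node (.node (.node (.leaf ⟨[0,3,4,5,0,3,4,5,0,3,4,5,0,3,4,5,0,3,4],16,18⟩) (.leaf ⟨[6,0,6,5,0,5,0,6,5,0],14,4⟩)) (.node (.leaf ⟨[1,5,4,5,0,5,0,4,1],28,2⟩) (.leaf ⟨[4,5,4,5,7,2,4,5,4],33,3⟩))) (.node (.node (.leaf ⟨[7,5,7],22,0⟩) (.leaf ⟨[6,1,5,1,5,6,1,6,5,1],29,8⟩)) (.node (.leaf ⟨[0,5,0,4,1,5,1,5,4],28,6⟩) (.leaf ⟨[5],6,0⟩))))) (.node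 (.node (.node (.node (.leaf ⟨[3,5,3],10,3⟩) (.leaf ⟨[6,1,6,5,1,5,6,1,5,1],29,2⟩)) (.node (.leaf ⟨[0,4,1,5,1,5,4,5,0],28,8⟩) (.leaf ⟨[4,5,4,5,4,5,7,2,4],33,1⟩))) (.node (.node (.leaf ⟨[6,5,6,5,6],25,0⟩) (.leaf ⟨[4,5,4,2,7,5,4,5,4],31,6⟩)) (.node (.leaf ⟨[0,5,0,6,5,0,5,6,0,6],14,8⟩) (.leaf ⟨[5],6,0⟩)))) (.node (.node (.node (.leaf ⟨[4,0,4,0,5,1,4,1,4],17,5⟩) (.leaf ⟨[0,6,5,0,5,6,0,6,5,0],14,10⟩)) (.node (.leaf ⟨[4,2,7,5,4,5,4,5,4],31,8⟩) (.leaf ⟨[4,5,7,2,4,5,4,5,4],33,5⟩))) (.node (.node (.leaf ⟨[2,5,2],24,3⟩) (.leaf ⟨[4,5,4,5,4,2,7,5,4],31,4⟩)) (.node (.leaf ⟨[1,5,6,1,5,1,5,6,1,6],29,6⟩) (.leaf ⟨[5],6,0⟩))))))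
noncomputable def l0r6 : Bt Ru := (.node (.node (.node (.node (.leaf ⟨[6],5,0⟩) (.leaf ⟨[2,6,2],26,3⟩)) (.node (.leaf ⟨[5,6,5,6,5],25,5⟩) (.leaf ⟨[6],5,0⟩))) (.node (.node (.leaf ⟨[0,6,5,0,5,0,6,5,0,5],14,5⟩) (.leaf ⟨[1,5,1,5,6,1,6,5,1,5],29,9⟩)) (.node (.leaf ⟨[4,6,4],15,3⟩) (.leaf ⟨[6],5,0⟩)))) (.node (.node (.node (.leaf ⟨[5,0,5,6,0,6,5,0,5,0],14,1⟩) (.leaf ⟨[7,6,7,6,7],27,0⟩)) (.node (.leaf ⟨[5,1,5,6,1,5,1,5,6,1],29,5⟩) (.leaf ⟨[6],5,0⟩))) (.node (.node (.leaf ⟨[3,6,3],19,3⟩) (.leaf ⟨[5,0,5,0,6,5,0,5,6,0],14,7⟩)) (.node (.leaf ⟨[1,6,5,1,5,6,1,5,1,5],29,3⟩) (.leaf ⟨[6],5,0⟩)))))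
noncomputable def l0r7 : Bt Ru := (.node (.node (.node (.node (.leaf ⟨[7],7,0⟩) (.leaf ⟨[2,4,5,4,5,4,5,4,5],33,8⟩)) (.node (.leaf ⟨[3,7,3],21,3⟩) (.leaf ⟨[7],7,0⟩))) (.node (.node (.leaf ⟨[2,0,0],11,2⟩) (.leaf ⟨[7],7,0⟩)) (.node (.leaf ⟨[6,7,6,7,6],27,5⟩) (.leaf ⟨[7],7,0⟩)))) (.node (.node (.node (.leaf ⟨[4,7,4],9,3⟩) (.leaf ⟨[5,4,5,4,5,4,5,4,2],31,1⟩)) (.node (.leaf ⟨[5,7,5],22,3⟩) (.leaf ⟨[7],7,0⟩))) (.node (.node (.leaf ⟨[2,7,2],13,3⟩) (.leaf ⟨[7],7,0⟩)) (.node (.leaf ⟨[1,1,2],1,1⟩) (.leaf ⟨[7],7,0⟩)))))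
noncomputable def l0r8 : Bt Ru := (.node (.node (.node (.node (.node (.node (.node (.leaf ⟨[4,1,4,3,1,3,4,1,4,3,1],30,0⟩) (.leaf ⟨[1,5,6,1,5,1,5,6,1,6,5],29,7⟩)) (.node (.leaf ⟨[4,0,3,4,0,4,3,0,3,4,0],12,10⟩) (.leaf ⟨[4,3,1,5,4,3,1,5,4,3,1,5,4,3,1,5,4,3,1,5],32,18⟩))) (.node (.node (.leaf ⟨[5,6,0,6,5,0,5,0,6,5,0],14,4⟩) (.leaf ⟨[1,5,4,5,0,5,0,4,1,5],28,3⟩)) (.node (.leaf ⟨[4,5,0,5,0,4,1,5,1,5],28,5⟩) (.leaf ⟨[4,5,7,2,4,5,4,5,4,5],33,6⟩)))) (.node (.node (.node (.leaf ⟨[4,2,4,2],23,3⟩) (.leaf ⟨[5,0,6,5,0,5,6,0,6,5,0],14,10⟩)) (.node (.leaf ⟨[5,0,5,6,0,6,5,0,5,0,6],14,2⟩) (.leaf ⟨[5,4,0,4,0,5,1,4,1,4],17,5⟩))) (.node (.node (.leaf ⟨[2,6,2,6],26,0⟩) (.leaf ⟨[5,6,1,6,5,1,5,6,1,5,1],29,2⟩)) (.node (.leaf ⟨[6,5,1,5,6,1,5,1,5,6,1],29,5⟩)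 (.leaf ⟨[5,4,5,4,5,4,5,4,2,7],31,2⟩))))) (.node (.node (.node (.node (.leaf ⟨[3,4,1,4,3,1,4,1,4,3,1],30,5⟩) (.leaf ⟨[4,3,1,3,4,1,4,3,1,4,1],30,2⟩)) (.node (.leaf ⟨[3,5,3,5],10,0⟩) (.leaf ⟨[3,4,3,4,3,4],18,0⟩))) (.node (.node (.leaf ⟨[1,1,2,7],1,2⟩) (.leaf ⟨[5,6,1,5,1,5,6,1,6,5,1],29,8⟩)) (.node (.leaf ⟨[1,4,1,4,3,1,3,4,1,4,3],30,10⟩) (.leaf ⟨[5,7,2,4,5,4,5,4,5,4],33,7⟩)))) (.node (.node (.node (.leaf ⟨[4,6,4,6],15,0⟩) (.leaf ⟨[4,0,4,0,3,4,0,4,3,0,3],12,8⟩)) (.node (.leaf ⟨[4,0,4,3,0,3,4,0,4,0,3],12,2⟩) (.leaf ⟨[4,5,4,5,7,2,4,5,4,5],33,4⟩))) (.node (.node (.leaf ⟨[1,5,1,5,4,5,0,5,0,4],28,1⟩) (.leaf ⟨[1,5,4,3,1,5,4,3,1,5,4,3,1,5,4,3,1,5,4,3],32,0⟩)) (.node (.leaf ⟨[1,5,1,5,6,1,6,5,1,5,6],29,10⟩) (.leaf ⟨[3,1,5,4,3,1,5,4,3,1,5,4,3,1,5,4,3,1,5,4],32,19⟩))))))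 (.node (.node (.node (.node (.node (.leaf ⟨[5,1,5,6,1,6,5,1,5,6,1],29,0⟩) (.leaf ⟨[5,7,5,7],22,0⟩)) (.node (.leaf ⟨[0,3,4,0,4,0,3,4,0,4,3],12,6⟩) (.leaf ⟨[5,0,5,0,4,1,5,1,5,4],28,6⟩))) (.node (.node (.leaf ⟨[3,1,3,4,1,4,3,1,4,1,4],30,3⟩) (.leaf ⟨[4,3,0,3,4,0,4,0,3,4,0],12,4⟩)) (.node (.leaf ⟨[2,0,0,7],11,3⟩) (.leaf ⟨[5,4,5,4,2,7,5,4,5,4],31,6⟩)))) (.node (.node (.node (.leaf ⟨[7,2,7,2],13,3⟩) (.leaf ⟨[5,0,4,1,5,1,5,4,5,0],28,8⟩)) (.node (.leaf ⟨[5,3,5,3],10,3⟩) (.leaf ⟨[6,5,6,5,6,5],25,5⟩))) (.node (.node (.leaf ⟨[0,5,6,0,6,5,0,5,0,6,5],14,3⟩) (.leaf ⟨[3,4,0,4,3,0,3,4,0,4,0],12,1⟩)) (.node (.leaf ⟨[0,4,3,0,3,4,0,4,0,3,4],12,3⟩) (.leaf ⟨[4,5,4,5,4,5,4,2,7,5],31,3⟩))))) (.node (.node (.node (.node (.leaf ⟨[7,4,7,4],9,3⟩) (.leaf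 ⟨[4,1,4,5,4,0,4,0,5,1],17,2⟩)) (.node (.leaf ⟨[1,5,6,1,6,5,1,5,6,1,5],29,1⟩) (.leaf ⟨[5,4,5,4,5,7,2,4,5,4],33,3⟩))) (.node (.node (.leaf ⟨[1,4,3,1,4,1,4,3,1,3,4],30,7⟩) (.leaf ⟨[3,4,0,4,0,3,4,0,4,3,0],12,7⟩)) (.node (.leaf ⟨[0,6,5,0,5,6,0,6,5,0,5],14,0⟩) (.leaf ⟨[2,7,5,4,5,4,5,4,5,4],31,0⟩)))) (.node (.node (.node (.leaf ⟨[4,1,5,1,5,4,5,0,5,0],28,0⟩) (.leaf ⟨[4,5,4,0,4,0,5,1,4,1],17,4⟩)) (.node (.leaf ⟨[7,6,7,6,7,6],27,5⟩) (.leaf ⟨[4,5,4,2,7,5,4,5,4,5],31,7⟩))) (.node (.node (.leaf ⟨[4,1,4,3,1,4,1,4,3,1,3],30,6⟩) (.leaf ⟨[3,1,4,1,4,3,1,3,4,1,4],30,9⟩)) (.node (.leaf ⟨[6,5,0,5,6,0,6,5,0,5,0],14,1⟩) (.leaf ⟨[0,1],0,0⟩))))))) (.node (.node (.node (.node (.node (.node (.leaf ⟨[2,4,2,4],23,0⟩) (.leaf ⟨[0,4,1,5,1,5,4,5,0,5],28,9⟩))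 (.node (.leaf ⟨[6,3,6,3],19,3⟩) (.leaf ⟨[5,4,5,4,5,4,2,7,5,4],31,4⟩))) (.node (.node (.leaf ⟨[3,6,3,6],19,0⟩) (.leaf ⟨[4,3,4,3,4,3],18,5⟩)) (.node (.leaf ⟨[1,4,5,4,0,4,0,5,1,4],17,3⟩) (.leaf ⟨[5,4,2,7,5,4,5,4,5,4],31,8⟩)))) (.node (.node (.node (.leaf ⟨[2,5,2,5],24,0⟩) (.leaf ⟨[0,5,1,4,1,4,5,4,0,4],17,9⟩)) (.node (.leaf ⟨[6,4,6,4],15,3⟩) (.leaf ⟨[0,3,4,5,0,3,4,5,0,3,4,5,0,3,4,5,0,3,4,5],16,19⟩))) (.node (.node (.leaf ⟨[6,0,6,5,0,5,0,6,5,0,5],14,5⟩) (.leaf ⟨[7,1,1,2],1,1⟩)) (.node (.leaf ⟨[3,0,3,4,0,4,0,3,4,0,4],12,5⟩) (.leaf ⟨[5,4,5,4,5,4,5,7,2,4],33,1⟩))))) (.node (.node (.node (.node (.leaf ⟨[0,7,2,0],11,1⟩) (.leaf ⟨[0,4,0,5,1,4,1,4,5,4],17,7⟩)) (.node (.leaf ⟨[1,6,5,1,5,6,1,5,1,5,6],29,4⟩) (.leaf ⟨[6,1,5,1,5,6,1,6,5,1,5],29,9⟩)))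 (.node (.node (.leaf ⟨[2,7,1,1],1,0⟩) (.leaf ⟨[6,2,6,2],26,3⟩)) (.node (.leaf ⟨[1,3,4,1,4,3,1,4,1,4,3],30,4⟩) (.leaf ⟨[4,5,4,5,4,5,7,2,4,5],33,2⟩)))) (.node (.node (.node (.leaf ⟨[2,3,2,3,2,3],20,0⟩) (.leaf ⟨[1,4,1,4,5,4,0,4,0,5],17,1⟩)) (.node (.leaf ⟨[0,4,0,3,4,0,4,3,0,3,4],12,9⟩) (.leaf ⟨[5,4,5,7,2,4,5,4,5,4],33,5⟩))) (.node (.node (.leaf ⟨[7,2,0,0],11,2⟩) (.leaf ⟨[2,7,2,7],13,0⟩)) (.node (.leaf ⟨[6,1,6,5,1,5,6,1,5,1,5],29,3⟩) (.leaf ⟨[0,1],0,0⟩)))))) (.node (.node (.node (.node (.node (.leaf ⟨[7,5,7,5],22,3⟩) (.leaf ⟨[5,0,5,0,6,5,0,5,6,0,6],14,8⟩)) (.node (.leaf ⟨[0,6,5,0,5,0,6,5,0,5,6],14,6⟩) (.leaf ⟨[4,0,4,0,5,1,4,1,4,5],17,6⟩))) (.node (.node (.leaf ⟨[6,7,6,7,6,7],27,0⟩) (.leaf ⟨[6,5,0,5,0,6,5,0,5,6,0],14,7⟩)) (.node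 (.leaf ⟨[1,2,7,1],1,3⟩) (.leaf ⟨[4,5,0,3,4,5,0,3,4,5,0,3,4,5,0,3,4,5,0,3],16,17⟩)))) (.node (.node (.node (.leaf ⟨[5,4,5,0,5,0,4,1,5,1],28,4⟩) (.leaf ⟨[5,1,4,1,4,5,4,0,4,0],17,0⟩)) (.node (.leaf ⟨[5,1,5,4,5,0,5,0,4,1],28,2⟩) (.leaf ⟨[3,4,5,0,3,4,5,0,3,4,5,0,3,4,5,0,3,4,5,0],16,0⟩))) (.node (.node (.leaf ⟨[0,0,7,2],11,0⟩) (.leaf ⟨[5,6,5,6,5,6],25,0⟩)) (.node (.leaf ⟨[4,7,4,7],9,0⟩) (.leaf ⟨[7,5,4,5,4,5,4,5,4,2],31,1⟩))))) (.node (.node (.node (.node (.leaf ⟨[5,2,5,2],24,3⟩) (.leaf ⟨[1,4,3,1,3,4,1,4,3,1,4],30,1⟩)) (.node (.leaf ⟨[3,7,3,7],21,0⟩) (.leaf ⟨[5,0,3,4,5,0,3,4,5,0,3,4,5,0,3,4,5,0,3,4],16,18⟩))) (.node (.node (.leaf ⟨[7,3,7,3],21,3⟩) (.leaf ⟨[4,3,1,4,1,4,3,1,3,4,1],30,8⟩)) (.node (.leaf ⟨[0,3,4,0,4,3,0,3,4,0,4],12,0⟩)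 (.leaf ⟨[4,2,7,5,4,5,4,5,4,5],31,9⟩)))) (.node (.node (.node (.leaf ⟨[3,2,3,2,3,2],20,5⟩) (.leaf ⟨[0,5,0,4,1,5,1,5,4,5],28,7⟩)) (.node (.leaf ⟨[5,1,5,6,1,5,1,5,6,1,6],29,6⟩) (.leaf ⟨[4,5,4,5,4,2,7,5,4,5],31,5⟩))) (.node (.node (.leaf ⟨[4,0,5,1,4,1,4,5,4,0],17,8⟩) (.leaf ⟨[5,4,3,1,5,4,3,1,5,4,3,1,5,4,3,1,5,4,3,1],32,17⟩)) (.node (.leaf ⟨[0,5,0,6,5,0,5,6,0,6,5],14,9⟩) (.leaf ⟨[0,1],0,0⟩))))))))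
noncomputable def l1r0 : Bt Ru := (.leaf ⟨[1],0,0⟩)
noncomputable def l1r1 : Bt Ru := (.leaf ⟨[0],8,0⟩)
noncomputable def l1r2 : Bt Ru := (.node (.node (.node (.leaf ⟨[6,2,6],26,0⟩) (.leaf ⟨[2],2,0⟩)) (.node (.leaf ⟨[7,2,7],13,0⟩) (.leaf ⟨[7,5,4,5,4,5,4,5,4],31,0⟩))) (.node (.node (.leaf ⟨[5,2,5],24,0⟩) (.leaf ⟨[4,5,4,5,4,5,4,5,7],33,9⟩)) (.node (.leaf ⟨[4,2,4],23,0⟩) (.leaf ⟨[3,2,3,2,3],20,0⟩))))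
noncomputable def l1r3 : Bt Ru := (.node (.node (.node (.leaf ⟨[6,3,6],19,0⟩) (.leaf ⟨[2,3,2,3,2],20,5⟩)) (.node (.leaf ⟨[7,3,7],21,0⟩) (.leaf ⟨[3],3,0⟩))) (.node (.node (.leaf ⟨[5,3,5],10,0⟩) (.leaf ⟨[4,3,4,3,4],18,0⟩)) (.node (.leaf ⟨[3],3,0⟩) (.leaf ⟨[3],3,0⟩))))
noncomputable def l1r4 : Bt Ru := (.node (.node (.node (.node (.leaf ⟨[6,4,6],15,0⟩) (.leaf ⟨[5,4,5,4,5,4,5,7,2],33,0⟩)) (.node (.leaf ⟨[2,4,2],23,3⟩) (.leaf ⟨[4],4,0⟩))) (.node (.node (.leaf ⟨[4],4,0⟩) (.leaf ⟨[4],4,0⟩)) (.node (.leaf ⟨[2,7,5,4,5,4,5,4,5],31,9⟩) (.leaf ⟨[4],4,0⟩)))) (.node (.node (.node (.leaf ⟨[7,4,7],9,0⟩) (.leaf ⟨[4],4,0⟩)) (.node (.leaf ⟨[5,4,2,7,5,4,5,4,5],31,7⟩) (.leaf ⟨[4],4,0⟩))) (.node (.node (.leaf ⟨[3,4,3,4,3],18,5⟩) (.leaf ⟨[4],4,0⟩))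 (.node (.leaf ⟨[5,4,5,4,2,7,5,4,5],31,5⟩) (.leaf ⟨[4],4,0⟩)))))
noncomputable def l1r5 : Bt Ru := (.node (.node (.node (.node (.leaf ⟨[5],6,0⟩) (.leaf ⟨[4,5,4,5,4,2,7,5,4],31,4⟩)) (.node (.leaf ⟨[2,5,2],24,3⟩) (.leaf ⟨[5],6,0⟩))) (.node (.node (.leaf ⟨[4,5,4,2,7,5,4,5,4],31,6⟩) (.leaf ⟨[4,5,4,5,4,5,7,2,4],33,1⟩)) (.node (.leaf ⟨[7,2,4,5,4,5,4,5,4],33,7⟩) (.leaf ⟨[5],6,0⟩)))) (.node (.node (.node (.leaf ⟨[6,5,6,5,6],25,0⟩) (.leaf ⟨[4,5,7,2,4,5,4,5,4],33,5⟩)) (.node (.leaf ⟨[4,2,7,5,4,5,4,5,4],31,8⟩) (.leaf ⟨[5],6,0⟩))) (.node (.node (.leaf ⟨[3,5,3],10,3⟩) (.leaf ⟨[5],6,0⟩)) (.node (.leaf ⟨[7,5,7],22,0⟩) (.leaf ⟨[5],6,0⟩)))))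
noncomputable def l1r6 : Bt Ru := (.node (.node (.node (.leaf ⟨[6],5,0⟩) (.leaf ⟨[3,6,3],19,3⟩)) (.node (.leaf ⟨[7,6,7,6,7],27,0⟩) (.leaf ⟨[6],5,0⟩))) (.node (.node (.leaf ⟨[5,6,5,6,5],25,5⟩) (.leaf ⟨[2,6,2],26,3⟩)) (.node (.leaf ⟨[4,6,4],15,3⟩) (.leaf ⟨[6],5,0⟩))))
noncomputable def l1r7 : Bt Ru := (.node (.node (.node (.leaf ⟨[7],7,0⟩) (.leaf ⟨[3,7,3],21,3⟩)) (.node (.leaf ⟨[6,7,6,7,6],27,5⟩) (.leaf ⟨[2,7,2],13,3⟩))) (.node (.node (.leaf ⟨[5,7,5],22,3⟩) (.leaf ⟨[2,4,5,4,5,4,5,4,5],33,8⟩)) (.node (.leaf ⟨[4,7,4],9,3⟩) (.leaf ⟨[5,4,5,4,5,4,5,4,2],31,1⟩))))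
noncomputable def l1r8 : Bt Ru := (.node (.leaf ⟨[5,6,5,6,5,6],25,0⟩) (.leaf ⟨[7,6,7,6,7,6],27,5⟩))
noncomputable def l2r0 : Bt Ru := (.leaf ⟨[1],0,0⟩)
noncomputable def l2r1 : Bt Ru := (.leaf ⟨[0],8,0⟩)
noncomputable def l2r2 : Bt Ru := (.node (.node (.leaf ⟨[5,2,5],24,0⟩) (.leaf ⟨[2],2,0⟩)) (.node (.leaf ⟨[4,2,4],23,0⟩) (.leaf ⟨[3,2,3,2,3],20,0⟩)))
noncomputable def l2r3 : Bt Ru := (.node (.node (.leaf ⟨[5,3,5],10,0⟩) (.leaf ⟨[2,3,2,3,2],20,5⟩)) (.node (.leaf ⟨[3],3,0⟩) (.leaf ⟨[4,3,4,3,4],18,0⟩)))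
noncomputable def l2r4 : Bt Ru := (.node (.node (.node (.leaf ⟨[4],4,0⟩) (.leaf ⟨[5,4,2,7,5,4,5,4,5],31,7⟩)) (.node (.leaf ⟨[3,4,3,4,3],18,5⟩) (.leaf ⟨[4],4,0⟩))) (.node (.node (.leaf ⟨[5,4,5,4,2,7,5,4,5],31,5⟩) (.leaf ⟨[4],4,0⟩)) (.node (.leaf ⟨[2,4,2],23,3⟩) (.leaf ⟨[4],4,0⟩))))
noncomputable def l2r5 : Bt Ru := (.node (.node (.leaf ⟨[5],6,0⟩) (.leaf ⟨[2,5,2],24,3⟩)) (.node (.leaf ⟨[3,5,3],10,3⟩) (.leaf ⟨[5],6,0⟩)))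
noncomputable def l2r6 : Bt Ru := (.leaf ⟨[6],5,0⟩)
noncomputable def l2r7 : Bt Ru := (.node (.node (.leaf ⟨[5,7,5],22,3⟩) (.leaf ⟨[3,7,3],21,3⟩)) (.node (.leaf ⟨[4,7,4],9,3⟩) (.leaf ⟨[2,7,2],13,3⟩)))
noncomputable def l2r8 : Bt Ru := (.leaf ⟨[0,1],0,0⟩)
noncomputable def l3r0 : Bt Ru := (.leaf ⟨[1],0,0⟩)
noncomputable def l3r1 : Bt Ru := (.leaf ⟨[0],8,0⟩)
noncomputable def l3r2 : Bt Ru := (.node (.node (.leaf ⟨[2],2,0⟩) (.leaf ⟨[7,2,7],13,0⟩)) (.node (.leaf ⟨[4,2,4],23,0⟩) (.leaf ⟨[3,2,3,2,3],20,0⟩)))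
noncomputable def l3r3 : Bt Ru := (.node (.node (.leaf ⟨[3],3,0⟩) (.leaf ⟨[2,3,2,3,2],20,5⟩)) (.node (.leaf ⟨[7,3,7],21,0⟩) (.leaf ⟨[4,3,4,3,4],18,0⟩)))
noncomputable def l3r4 : Bt Ru := (.node (.node (.leaf ⟨[4],4,0⟩) (.leaf ⟨[7,4,7],9,0⟩)) (.node (.leaf ⟨[3,4,3,4,3],18,5⟩) (.leaf ⟨[2,4,2],23,3⟩)))
noncomputable def l3r5 : Bt Ru := (.leaf ⟨[5],6,0⟩)
noncomputable def l3r6 : Bt Ru := (.leaf ⟨[6],5,0⟩)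
noncomputable def l3r7 : Bt Ru := (.node (.node (.leaf ⟨[7],7,0⟩) (.leaf ⟨[4,7,4],9,3⟩)) (.node (.leaf ⟨[2,7,2],13,3⟩) (.leaf ⟨[3,7,3],21,3⟩)))
noncomputable def l3r8 : Bt Ru := (.leaf ⟨[0,1],0,0⟩)
noncomputable def l0T : List (Bt Nat) := [l0t0, l0t1, l0t2, l0t3, l0t4, l0t5, l0t6, l0t7, l0t8, l0t9]
noncomputable def l0R : List (Bt Ru) := [l0r0, l0r1, l0r2, l0r3, l0r4, l0r5, l0r6, l0r7, l0r8]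
noncomputable def l0c (a lo cnt : Nat) : Nat := chk (gT l0T (nat_lit 14)) (rT l0R) (nat_lit 14) (nat_lit 0xffffc0) (nat_lit 0xffc000) (nat_lit 0x3fc0) (nat_lit 8) (nat_lit 24) (nat_lit 0x3ffff) (nat_lit 0x800003ffffffffff) (nat_lit 127) (nat_lit 252) (nat_lit 252) (nat_lit 0xaf59c0) a (nfOf [0,1,2,3,4,5,6,7] 122760 a) lo cnt
noncomputable def l0f (a : Nat) : Nat := l0c a 0 1023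
noncomputable def l0m (lo cnt : Nat) : Nat := chkM (gT l0T (nat_lit 14)) (nat_lit 14) (nat_lit 0xffffc0) (nat_lit 0xffc000) (nat_lit 0x3fc0) (nat_lit 8) lo cnt
noncomputable def l1T : List (Bt Nat) := [(.leaf (nat_lit 0)), (.leaf (nat_lit 0)), l1t2, l1t3, l1t4, l1t5, l1t6, l1t7, l1t8, l1t9]
noncomputable def l1R : List (Bt Ru) := [l1r0, l1r1, l1r2, l1r3, l1r4, l1r5, l1r6, l1r7, l1r8]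
noncomputable def l1c (a lo cnt : Nat) : Nat := chk (gT l1T (nat_lit 14)) (rT l1R) (nat_lit 14) (nat_lit 0x7ffc0) (nat_lit 0x7c000) (nat_lit 0x3fc0) (nat_lit 8) (nat_lit 19) (nat_lit 8191) (nat_lit 0x80000000ffffffff) (nat_lit 13) (nat_lit 24) (nat_lit 188) (nat_lit 0x5b640) a (nfOf [2,3,4,5,6,7] 5586 a) lo cnt
noncomputable def l1f (a : Nat) : Nat := l1c a 0 31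
noncomputable def l1m (lo cnt : Nat) : Nat := chkM (gT l1T (nat_lit 14)) (nat_lit 14) (nat_lit 0x7ffc0) (nat_lit 0x7c000) (nat_lit 0x3fc0) (nat_lit 8) lo cnt
noncomputable def l2T : List (Bt Nat) := [(.leaf (nat_lit 0)), (.leaf (nat_lit 0)), l2t2, l2t3, l2t4, l2t5, (.leaf (nat_lit 0)), l2t7, (.leaf (nat_lit 0)), l2t9]
noncomputable def l2R : List (Bt Ru) := [l2r0, l2r1, l2r2, l2r3, l2r4, l2r5, l2r6, l2r7, l2r8]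
noncomputable def l2c (a lo cnt : Nat) : Nat := chk (gT l2T (nat_lit 14)) (rT l2R) (nat_lit 14) (nat_lit 0x7fc0) (nat_lit 0x4000) (nat_lit 0x3fc0) (nat_lit 8) (nat_lit 15) (nat_lit 511) (nat_lit 0x8000000000ffffff) (nat_lit 7) (nat_lit 12) (nat_lit 156) (nat_lit 0x4340) a (nfOf [2,3,4,5,7] 14 a) lo cnt
noncomputable def l2f (a : Nat) : Nat := l2c a 0 1
noncomputable def l2m (lo cnt : Nat) : Nat := chkM (gT l2T (nat_lit 14)) (nat_lit 14) (nat_lit 0x7fc0) (nat_lit 0x4000) (nat_lit 0x3fc0) (nat_lit 8) lo cnt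
noncomputable def l3T : List (Bt Nat) := [(.leaf (nat_lit 0)), (.leaf (nat_lit 0)), l3t2, l3t3, l3t4, (.leaf (nat_lit 0)), (.leaf (nat_lit 0)), l3t7, (.leaf (nat_lit 0)), l3t9]
noncomputable def l3R : List (Bt Ru) := [l3r0, l3r1, l3r2, l3r3, l3r4, l3r5, l3r6, l3r7, l3r8]
noncomputable def l3c (a lo cnt : Nat) : Nat := chk (gT l3T (nat_lit 14)) (rT l3R) (nat_lit 14) (nat_lit 0x7fc0) (nat_lit 0x4000) (nat_lit 0x3fc0) (nat_lit 8) (nat_lit 15) (nat_lit 511) (nat_lit 0x8000000000ffffff) (nat_lit 6) (nat_lit 10) (nat_lit 0) (nat_lit 0x4bc0) a (nfOf [2,3,4,7] 48 a) lo cnt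
noncomputable def l3f (a : Nat) : Nat := l3c a 0 1
noncomputable def l3m (lo cnt : Nat) : Nat := chkM (gT l3T (nat_lit 14)) (nat_lit 14) (nat_lit 0x7fc0) (nat_lit 0x4000) (nat_lit 0x3fc0) (nat_lit 8) lo cnt

end Cfsg.Agent.TCX.ON
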