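import Cfsg.Agent.Lib.TCX.ON.C0
import Cfsg.Agent.Lib.TCX.ON.C1
import Cfsg.Agent.Lib.TCX.ON.C2
import Cfsg.Agent.Lib.TCX.Cert

set_option autoImplicit false
set_option maxRecDepth 100000
set_option Elab.async false

namespace Cfsg.Agent.TCX.ON

open Cfsg.Agent.CG

/-- The relators used. -/
noncomputable def R : List (List ℕ) := [[0,1],
  [2,7,1,1],
  [2,2],
  [3,3],
  [4,4],
  [6,6],
  [5,5],
  [7,7],
  [1,0],
  [4,7,4,7],
  [3,5,3,5],
  [0,0,7,2],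
  [0,3,4,0,4,3,0,3,4,0,4],
  [2,7,2,7],
  [0,6,5,0,5,6,0,6,5,0,5],
  [4,6,4,6],
  [3,4,5,0,3,4,5,0,3,4,5,0,3,4,5,0,3,4,5,0],
  [5,1,4,1,4,5,4,0,4,0],
  [3,4,3,4,3,4],
  [3,6,3,6],
  [2,3,2,3,2,3],
  [3,7,3,7],
  [5,7,5,7],
  [2,4,2,4],
  [2,5,2,5],
  [5,6,5,6,5,6],
  [2,6,2,6],
  [6,7,6,7,6,7],
  [4,1,5,1,5,4,5,0,5,0],
  [5,1,5,6,1,6,5,1,5,6,1],
  [4,1,4,3,1,3,4,1,4,3,1],
  [2,7,5,4,5,4,5,4,5,4],
  [1,5,4,3,1,5,4,3,1,5,4,3,1,5,4,3,1,5,4,3],
  [4,5,4,5,4,5,4,5,7,2],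
  [4,5,4,5,4,5,4,5,4,5,4,5,4,5,4,5]]

noncomputable def invL : List ℕ := [1,0,2,3,4,5,6,7]

/-- How the relators used follow from the given ones. -/
noncomputable def hints : List (ℕ × Bool × List ℕ) := [(43,false,[]),
  (0,false,[]),
  (43,false,[]),
  (43,false,[]),
  (43,false,[]),
  (43,false,[]),
  (43,false,[]),
  (43,false,[]),
  (43,false,[]),
  (24,false,[]),
  (16,false,[]),
  (0,true,[]),
  (5,false,[]),
  (12,false,[]),
  (6,false,[]),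
  (23,false,[]),
  (4,false,[]),
  (3,false,[]),
  (15,false,[]),
  (17,false,[]),
  (8,false,[]),
  (18,false,[]),
  (30,false,[]),
  (9,false,[]),
  (10,false,[]),
  (29,false,[]),
  (11,false,[]),
  (36,false,[]),
  (2,false,[]),
  (6,true,[]),
  (5,true,[]),
  (1,false,[]),
  (4,true,[]),
  (1,true,[]),
  (22,false,[])]

theorem l0g (a : ℕ) : Glue (l0c a) := fun _ _ _ => chk_append
theorem l0f0 : l0f 0 = 0 :=
  show l0c 0 0 1023 = 0 from (l0g 0).app (n := 1023) ((l0g 0).app (n := 598) ((l0g 0).app (n := 467) ((l0g 0).app (n := 374) ((l0g 0).app (n := 288) ((l0g 0).app (n := 203) (c0) c1 rfl rfl) c2 rfl rfl) c3 rfl rfl) c4 rfl rfl) c5 rfl rfl) c6 rfl rfl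
theorem l0f1 : l0f 1 = 0 :=
  show l0c 1 0 1023 = 0 from (l0g 1).app (n := 1023) ((l0g 1).app (n := 614) ((l0g 1).app (n := 477) ((l0g 1).app (n := 379) ((l0g 1).app (n := 291) ((l0g 1).app (n := 205) (c7) c8 rfl rfl) c9 rfl rfl) c10 rfl rfl) c11 rfl rfl) c12 rfl rfl) c13 rfl rfl
theorem l0f2 : l0f 2 = 0 :=
  show l0c 2 0 1023 = 0 from (l0g 2).app (n := 1023) ((l0g 2).app (n := 684) ((l0g 2).app (n := 512) ((l0g 2).app (n := 374) ((l0g 2).app (n := 248) (c14) c15 rfl rfl) c16 rfl rfl) c17 rfl rfl) c18 rfl rfl) c19 rfl rfl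
theorem l0f3 : l0f 3 = 0 :=
  show l0c 3 0 1023 = 0 from (l0g 3).app (n := 1023) ((l0g 3).app (n := 675) ((l0g 3).app (n := 488) ((l0g 3).app (n := 362) ((l0g 3).app (n := 247) (c20) c21 rfl rfl) c22 rfl rfl) c23 rfl rfl) c24 rfl rfl) c25 rfl rfl
theorem l0f4 : l0f 4 = 0 :=
  show l0c 4 0 1023 = 0 from (l0g 4).app (n := 1023) ((l0g 4).app (n := 582) ((l0g 4).app (n := 444) ((l0g 4).app (n := 332) ((l0g 4).app (n := 230) (c26) c27 rfl rfl) c28 rfl rfl) c29 rfl rfl) c30 rfl rfl) c31 rfl rfl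
theorem l0f5 : l0f 5 = 0 :=
  show l0c 5 0 1023 = 0 from (l0g 5).app (n := 1023) ((l0g 5).app (n := 581) ((l0g 5).app (n := 441) ((l0g 5).app (n := 330) ((l0g 5).app (n := 228) (c32) c33 rfl rfl) c34 rfl rfl) c35 rfl rfl) c36 rfl rfl) c37 rfl rfl
theorem l0f6 : l0f 6 = 0 :=
  show l0c 6 0 1023 = 0 from (l0g 6).app (n := 1023) ((l0g 6).app (n := 679) ((l0g 6).app (n := 491) ((l0g 6).app (n := 359) ((l0g 6).app (n := 244) (c38) c39 rfl rfl) c40 rfl rfl) c41 rfl rfl) c42 rfl rfl) c43 rfl rfl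
theorem l0f7 : l0f 7 = 0 :=
  show l0c 7 0 1023 = 0 from (l0g 7).app (n := 1023) ((l0g 7).app (n := 676) ((l0g 7).app (n := 506) ((l0g 7).app (n := 368) ((l0g 7).app (n := 244) (c44) c45 rfl rfl) c46 rfl rfl) c47 rfl rfl) c48 rfl rfl) c49 rfl rfl
theorem l0f8 : l0f 8 = 0 :=
  show l0c 8 0 1023 = 0 from (l0g 8).app (n := 1023) ((l0g 8).app (n := 683) ((l0g 8).app (n := 651) ((l0g 8).app (n := 619) ((l0g 8).app (n := 587) ((l0g 8).app (n := 555) ((l0g 8).app (n := 523) (c50) c51 rfl rfl) c52 rfl rfl) c53 rfl rfl) c54 rfl rfl) c55 rfl rfl) c56 rfl rfl) c57 rfl rfl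
theorem l0all : ∀ a, a < 9 → l0f a = 0 :=
  allz_snoc (allz_snoc (allz_snoc (allz_snoc (allz_snoc (allz_snoc (allz_snoc (allz_snoc (allz_snoc (allz_zero _) l0f0) l0f1) l0f2) l0f3) l0f4) l0f5) l0f6) l0f7) l0f8
theorem l0ru : allLt (rusChk R (nat_lit 8) l0R) 9 = true := by decide +kernel
theorem l0gm : Glue l0m := fun _ _ _ => chkM_append
theorem l0mm : l0m 122760 56544 = 0 := l0gm.app (n := 56544) (c58) c59 rfl rfl
theorem l0_ok : Idx R [0,1,2,3,4,5,6,7] [2,3,4,5,6,7] 122760 :=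
  idx_of_chk (cm := 56544) (q := 8) (d := 10) (s2 := 42) (full := 1023) (f := l0f) (by decide +kernel) (by decide +kernel) (fun _ => rfl) l0all l0ru (by decide +kernel) (by decide +kernel) l0mm

theorem l1all : ∀ a, a < 9 → l1f a = 0 :=
  allz_of_orR c60
theorem l1ru : allLt (rusChk R (nat_lit 8) l1R) 9 = true := by decide +kernel
theorem l1gm : Glue l1m := fun _ _ _ => chkM_append
theorem l1mm : l1m 5586 8 = 0 := c61
theorem l1_ok : Idx R [2,3,4,5,6,7] [2,3,4,5,7] 5586 :=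
  idx_of_chk (cm := 8) (q := 8) (d := 5) (s2 := 32) (full := 31) (f := l1f) (by decide +kernel) (by decide +kernel) (fun _ => rfl) l1all l1ru (by decide +kernel) (by decide +kernel) l1mm

theorem l2all : ∀ a, a < 9 → l2f a = 0 :=
  allz_of_orR c62
theorem l2ru : allLt (rusChk R (nat_lit 8) l2R) 9 = true := by decide +kernel
theorem l2gm : Glue l2m := fun _ _ _ => chkM_append
theorem l2mm : l2m 14 0 = 0 := c63
theorem l2_ok : Idx R [2,3,4,5,7] [2,3,4,7] 14 :=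
  idx_of_chk (cm := 0) (q := 8) (d := 1) (s2 := 24) (full := 1) (f := l2f) (by decide +kernel) (by decide +kernel) (fun _ => rfl) l2all l2ru (by decide +kernel) (by decide +kernel) l2mm

theorem l3all : ∀ a, a < 9 → l3f a = 0 :=
  allz_of_orR c64
theorem l3ru : allLt (rusChk R (nat_lit 8) l3R) 9 = true := by decide +kernel
theorem l3gm : Glue l3m := fun _ _ _ => chkM_append
theorem l3mm : l3m 48 0 = 0 := c65
theorem l3_ok : Idx R [2,3,4,7] [] 48 :=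
  idx_of_chk (cm := 0) (q := 8) (d := 1) (s2 := 24) (full := 1) (f := l3f) (by decide +kernel) (by decide +kernel) (fun _ => rfl) l3all l3ru (by decide +kernel) (by decide +kernel) l3mm

theorem bounds : Bounds R [0,1,2,3,4,5,6,7] 460815505920 := fun _ _ y hR =>
  (show 122760 * (5586 * (14 * (48 * (1)))) = 460815505920 by decide +kernel) ▸ l0_ok.bound hR (l1_ok.bound hR (l2_ok.bound hR (l3_ok.bound hR (bound_nil y))))

end Cfsg.Agent.TCX.ON
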